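import Groth.Agent.Lib.FinQuot.Main
import Mathlib.AlgebraicGeometry.Pullbacks
import Mathlib.AlgebraicGeometry.Morphisms.Finite
import Mathlib.AlgebraicGeometry.Morphisms.Flat
import Mathlib.AlgebraicGeometry.Morphisms.FinitePresentation
import Mathlib.AlgebraicGeometry.GammaSpecAdjunction
import Mathlib.RingTheory.Finiteness.ModuleFinitePresentation
import Mathlib.RingTheory.Flat.EquationalCriterion

/-!
# Quotients of affine schemes by finite locally free equivalence relations
-/

universe u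

set_option backward.isDefEq.respectTransparency.types false

open CategoryTheory CategoryTheory.Limits AlgebraicGeometry

namespace Groth.Agent.FinQuot

variable {U R : Scheme.{u}} (s t : R ⟶ U)

/-- An equivalence relation in schemes, on points with values in all schemes. -/
structure SchEqv : Prop where
  ext : ∀ {T : Scheme.{u}} (a b : T ⟶ R), a ≫ s = b ≫ s → a ≫ t = b ≫ t → a = b
  refl : ∃ e : U ⟶ R, e ≫ s = 𝟙 U ∧ e ≫ t = 𝟙 U
  symm : ∃ i : R ⟶ R, i ≫ s = t ∧ i ≫ t = s
  trans : ∀ {T : Scheme.{u}} (a b : T ⟶ R), a ≫ t = b ≫ s →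
    ∃ c : T ⟶ R, c ≫ s = a ≫ s ∧ c ≫ t = b ≫ t

variable {s t}

/-- The point of an affine scheme defined by a map on global sections. -/
noncomputable def pt {X : Scheme.{u}} [IsAffine X] {L : CommRingCat.{u}} (φ : Γ(X, ⊤) ⟶ L) :
    Spec L ⟶ X :=
  Spec.map φ ≫ X.isoSpec.inv

theorem pt_comp {X Y : Scheme.{u}} [IsAffine X] [IsAffine Y] {L : CommRingCat.{u}}
    (φ : Γ(X, ⊤) ⟶ L) (f : X ⟶ Y) : pt φ ≫ f = pt (f.appTop ≫ φ) := by
  rw [pt, pt, Category.assoc, ← Scheme.isoSpec_inv_naturality, Spec.map_comp, Category.assoc]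

theorem pt_injective {X : Scheme.{u}} [IsAffine X] {L : CommRingCat.{u}} {φ ψ : Γ(X, ⊤) ⟶ L}
    (h : pt φ = pt ψ) : φ = ψ :=
  Spec.map_injective ((cancel_mono X.isoSpec.inv).1 h)

theorem exists_pt {X : Scheme.{u}} [IsAffine X] {L : CommRingCat.{u}} (a : Spec L ⟶ X) :
    ∃ φ : Γ(X, ⊤) ⟶ L, pt φ = a := by
  obtain ⟨φ, hφ⟩ := Spec.map_surjective (a ≫ X.isoSpec.hom)
  exact ⟨φ, by rw [pt, hφ, Category.assoc, Iso.hom_inv_id, Category.comp_id]⟩

theorem SchEqv.finEqv [IsAffine U] [IsAffine R] (h : SchEqv s t) :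
    letI := s.appTop.hom.toAlgebra
    FinEqv t.appTop.hom := by
  let := s.appTop.hom.toAlgebra
  refine ⟨fun {L} _ φ ψ e₁ e₂ => ?_, ?_, ?_, fun {L} _ φ ψ e => ?_⟩
  · refine congrArg CommRingCat.Hom.hom (pt_injective (φ := CommRingCat.ofHom φ)
      (ψ := CommRingCat.ofHom ψ) (h.ext _ _ ?_ ?_))
    · rw [pt_comp, pt_comp]; exact congrArg pt (CommRingCat.hom_ext e₁)
    · rw [pt_comp, pt_comp]; exact congrArg pt (CommRingCat.hom_ext e₂)
  · obtain ⟨e, he₁, he₂⟩ := h.refl
    refine ⟨e.appTop.hom, ?_, ?_⟩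
    · exact (CommRingCat.hom_comp _ _).symm.trans
        ((congrArg CommRingCat.Hom.hom (congrArg Scheme.Hom.appTop he₁)).trans rfl)
    · exact (CommRingCat.hom_comp _ _).symm.trans
        ((congrArg CommRingCat.Hom.hom (congrArg Scheme.Hom.appTop he₂)).trans rfl)
  · obtain ⟨i, hi₁, hi₂⟩ := h.symm
    refine ⟨i.appTop.hom, ?_, ?_⟩
    · exact congrArg CommRingCat.Hom.hom (congrArg Scheme.Hom.appTop hi₁)
    · exact congrArg CommRingCat.Hom.hom (congrArg Scheme.Hom.appTop hi₂)
  · obtain ⟨c, hc₁, hc₂⟩ := h.trans (pt (CommRingCat.ofHom φ)) (pt (CommRingCat.ofHom ψ))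
      (by rw [pt_comp, pt_comp]; exact congrArg pt (CommRingCat.hom_ext e))
    obtain ⟨χ, rfl⟩ := exists_pt c
    rw [pt_comp, pt_comp] at hc₁ hc₂
    exact ⟨χ.hom, congrArg CommRingCat.Hom.hom (pt_injective hc₁),
      congrArg CommRingCat.Hom.hom (pt_injective hc₂)⟩

variable (s t) in
/-- The map to the spectrum of the invariant functions. -/
noncomputable def toInv : U ⟶ Spec (CommRingCat.of (RingHom.eqLocus s.appTop.hom t.appTop.hom)) :=
  U.toSpecΓ ≫ Spec.map (CommRingCat.ofHom (RingHom.eqLocus s.appTop.hom t.appTop.hom).subtype)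

/-- The quotient of an affine scheme by a finite locally free equivalence relation. -/
theorem SchEqv.quotient [IsAffine U] [IsFinite s] [Flat s] [LocallyOfFinitePresentation s]
    (h : SchEqv s t) :
    IsFinite (toInv s t) ∧ Flat (toInv s t) ∧ LocallyOfFinitePresentation (toInv s t) ∧
      Surjective (toInv s t) ∧ IsPullback s t (toInv s t) (toInv s t) := by
  have : IsAffine R := isAffine_of_isAffineHom s
  let := s.appTop.hom.toAlgebra
  have hf : Module.Finite Γ(U, ⊤) Γ(R, ⊤) :=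
    RingHom.finite_algebraMap.1 ((HasAffineProperty.iff_of_isAffine (P := @IsFinite)).1 ‹IsFinite s›).2
  have hfl : Module.Flat Γ(U, ⊤) Γ(R, ⊤) :=
    RingHom.flat_algebraMap_iff.1 ((HasRingHomProperty.iff_of_isAffine (P := @Flat)).1 ‹Flat s›)
  have hfp : Algebra.FinitePresentation Γ(U, ⊤) Γ(R, ⊤) :=
    (HasRingHomProperty.iff_of_isAffine (P := @LocallyOfFinitePresentation)).1 ‹_›
  have : Module.FinitePresentation Γ(U, ⊤) Γ(R, ⊤) :=
    Module.FinitePresentation.of_finite_of_finitePresentation _ _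
  have : Module.Projective Γ(U, ⊤) Γ(R, ⊤) := Module.Flat.projective_of_finitePresentation
  obtain ⟨hCf, hCp, hCff, hbij⟩ := FinQuot.quotient h.finEqv
  set C := RingHom.eqLocus (algebraMap Γ(U, ⊤) Γ(R, ⊤)) t.appTop.hom
  have hπ : toInv s t = U.isoSpec.hom ≫ Spec.map (CommRingCat.ofHom C.subtype) := rfl
  let e := RingEquiv.ofBijective (mulHom (t := t.appTop.hom)).toRingHom hbij
  have hpo : IsPushout (CommRingCat.ofHom C.subtype) (CommRingCat.ofHom C.subtype) s.appTop t.appTop :=
    (CommRingCat.isPushout_tensorProduct C Γ(U, ⊤) Γ(U, ⊤)).of_iso (Iso.refl _) (Iso.refl _)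
      (Iso.refl _) e.toCommRingCatIso rfl rfl
      (by
        ext a
        change mulHom (t := t.appTop.hom) (a ⊗ₜ 1) = s.appTop.hom a
        rw [mulHom_tmul, map_one, Algebra.smul_def, mul_one]
        rfl)
      (by
        ext a
        change mulHom (t := t.appTop.hom) (1 ⊗ₜ a) = t.appTop.hom a
        rw [mulHom_tmul, one_smul])
  have hff : (CommRingCat.ofHom C.subtype).hom.FaithfullyFlat := hCff
  obtain ⟨hflat, hsurj⟩ := (flat_and_surjective_SpecMap_iff _).2 hff
  have hfin : IsFinite (Spec.map (CommRingCat.ofHom C.subtype)) :=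
    (IsFinite.SpecMap_iff _).2 (RingHom.finite_algebraMap.2 hCf)
  have : Module.FinitePresentation C Γ(U, ⊤) := Module.finitePresentation_of_projective _ _
  have hlfp : LocallyOfFinitePresentation (Spec.map (CommRingCat.ofHom C.subtype)) :=
    (HasRingHomProperty.Spec_iff (P := @LocallyOfFinitePresentation)).2
      (Algebra.FinitePresentation.of_finitePresentation C Γ(U, ⊤))
  rw [hπ]
  refine ⟨inferInstance, inferInstance, inferInstance, inferInstance, ?_⟩
  exact (isPullback_SpecMap_of_isPushout _ _ _ _ hpo).of_iso R.isoSpec.symm U.isoSpec.symm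
    U.isoSpec.symm (Iso.refl _) (Scheme.isoSpec_inv_naturality s) (Scheme.isoSpec_inv_naturality t)
    (by simp) (by simp)

end Groth.Agent.FinQuot
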