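import Groth.Agent.Lib.FinQuot.Scheme
import Mathlib.AlgebraicGeometry.QuasiAffine
import Mathlib.AlgebraicGeometry.Morphisms.QuasiFinite
import Mathlib.AlgebraicGeometry.ZariskisMainTheorem
import Mathlib.LinearAlgebra.Matrix.ToLinearEquiv
import Mathlib.RingTheory.Ideal.GoingUp

/-!
# Invariant affine neighbourhoods for finite locally free equivalence relations
-/

universe u

set_option backward.isDefEq.respectTransparency.types false

open CategoryTheory CategoryTheory.Limits AlgebraicGeometry Matrix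

namespace Groth.Agent.FinQuot

/-- The determinant of multiplication by `h`, extended by the identity to an ambient free module,
vanishes at a prime exactly when `h` vanishes at some prime above it. -/
theorem Retr.det_mem_iff {A B : Type u} [CommRing A] [CommRing B] [Algebra A B] [Module.Finite A B]
    (R : Retr A B) (h : B) (q : Ideal A) [hq : q.IsPrime] :
    (1 + R.mat (h - 1)).det ∈ q ↔
      ∃ P : Ideal B, P.IsPrime ∧ P.comap (algebraMap A B) = q ∧ h ∈ P := by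
  constructor
  · intro hc
    by_contra hne
    simp only [not_exists, not_and] at hne
    have hle : ¬ (Ideal.span {h}).comap (algebraMap A B) ≤ q := fun hle => by
      obtain ⟨P, hP, hPp, hPq⟩ := Ideal.exists_ideal_over_prime_of_isIntegral q (Ideal.span {h}) hle
      exact hne P hPp hPq (hP (Ideal.mem_span_singleton_self h))
    obtain ⟨a, ha, haq⟩ := SetLike.not_le_iff_exists.1 hle
    obtain ⟨k, hk⟩ := Ideal.mem_span_singleton'.1 (Ideal.mem_comap.1 ha)
    let M := R.mat 1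
    have hM : ∀ b, R.mat b * R.mat 1 = R.mat b := fun b => by rw [← R.mat_mul, mul_one]
    have hM' : ∀ b, R.mat 1 * R.mat b = R.mat b := fun b => by rw [← R.mat_mul, one_mul]
    have hN : ∀ b c, (1 + R.mat (b - 1)) * (1 + R.mat (c - 1)) = 1 + R.mat (b * c - 1) := fun b c => by
      rw [R.mat_sub, R.mat_sub, R.mat_sub, R.mat_mul]
      simp only [mul_add, add_mul, mul_sub, sub_mul, one_mul, mul_one, hM, hM']
      abel
    have ha' : (1 + R.mat (algebraMap A B a - 1)) * (a • (1 : Matrix (Fin R.N) (Fin R.N) A) - (a - 1) • M) =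
        a • (1 : Matrix (Fin R.N) (Fin R.N) A) := by
      have hMM : R.mat 1 * R.mat 1 = R.mat 1 := hM 1
      rw [R.mat_sub, Algebra.algebraMap_eq_smul_one, R.mat_smul]
      simp only [mul_sub, add_mul, sub_mul, one_mul, mul_one, smul_mul_assoc, mul_smul_comm, hMM, M]
      module
    have hdet := congrArg det ha'
    rw [← hk, mul_comm k h, ← hN, det_mul, det_mul, det_smul, det_one, mul_one] at hdet
    have : a ^ Fintype.card (Fin R.N) ∈ q := hdet ▸ q.mul_mem_right _ (q.mul_mem_right _ hc)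
    exact haq (hq.mem_of_pow_mem _ this)
  · rintro ⟨P, hP, hPq, hhP⟩
    let ρ := algebraMap B P.ResidueField
    let x : A →+* P.ResidueField := ρ.comp (algebraMap A B)
    let w : Fin R.N → P.ResidueField := fun j => ρ (R.r (Pi.single j 1))
    have hwr : ∀ v : Fin R.N → A, ∑ j, x (v j) * w j = ρ (R.r v) := fun v => by
      conv_rhs => rw [pi_eq_sum_univ' v]
      rw [map_sum, map_sum]
      refine Finset.sum_congr rfl fun j _ => ?_
      rw [map_smul, Algebra.smul_def, map_mul]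
      rfl
    have hw : ∀ b, w ᵥ* (R.mat b).map x = ρ b • w := fun b => by
      funext k
      have h1 : ρ (R.r (R.mat b *ᵥ Pi.single k 1)) = ρ b * w k := by
        rw [R.mat_mulVec, R.ri, map_mul]
      rw [Pi.smul_apply, smul_eq_mul, ← h1, ← hwr]
      simp [Matrix.vecMul, dotProduct, mul_comm]
    have hw0 : w ≠ 0 := fun e => by
      have := hwr (R.i 1)
      rw [R.ri, e] at this
      simp [ρ] at this
    have h0 : ((1 + R.mat (h - 1)).map x).det = 0 := by
      refine Matrix.exists_vecMul_eq_zero_iff.1 ⟨w, hw0, ?_⟩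
      rw [Matrix.map_add _ (map_add x), Matrix.map_one _ (map_zero x) (map_one x), vecMul_add,
        vecMul_one, hw, map_sub, map_one, show ρ h = 0 from Ideal.algebraMap_residueField_eq_zero.2 hhP]
      module
    rw [← hPq, Ideal.mem_comap, ← Ideal.algebraMap_residueField_eq_zero]
    exact (RingHom.map_det x _).trans h0

/-- A finite set of points in an open of an affine scheme lies in a basic open inside it. -/
theorem exists_basicOpen_of_finite {X : Scheme.{u}} {W : X.Opens} (hW : IsAffineOpen W) {O : X.Opens}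
    {E : Set X} (hE : E.Finite) (hEW : E ⊆ W) (hEO : E ⊆ O) :
    ∃ g : Γ(X, W), X.basicOpen g ≤ O ∧ E ⊆ X.basicOpen g := by
  let O' : (Spec Γ(X, W)).Opens := hW.fromSpec ⁻¹ᵁ O
  obtain ⟨I, hI⟩ := (PrimeSpectrum.isOpen_iff (U := (O'.carrier : Set (PrimeSpectrum Γ(X, W))))).1 O'.2
  classical
  let pr : X → Ideal Γ(X, W) := fun y =>
    if hy : y ∈ W then (hW.primeIdealOf ⟨y, hy⟩).asIdeal else ⊤
  obtain ⟨g, hgI, hg⟩ : ∃ g ∈ Ideal.span I, ∀ y ∈ E, g ∉ pr y := by
    by_contra hne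
    simp only [not_exists, not_and, not_forall, not_not] at hne
    have hsub : (Ideal.span I : Set Γ(X, W)) ⊆ ⋃ y ∈ (↑hE.toFinset : Set X), (pr y : Set _) :=
      fun g hg => by
        obtain ⟨y, hy, hgy⟩ := hne g hg
        exact Set.mem_iUnion₂.2 ⟨y, hE.mem_toFinset.2 hy, hgy⟩
    rcases E.eq_empty_or_nonempty with rfl | ⟨y₀, hy₀⟩
    · obtain ⟨y, hy, -⟩ := hne 0 (zero_mem _)
      exact hy
    obtain ⟨y, hy, hle⟩ := (Ideal.subset_union_prime y₀ y₀ fun y hy _ _ => by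
      have hyW : y ∈ W := hEW (hE.mem_toFinset.1 hy)
      simp only [pr, dif_pos hyW]
      exact (hW.primeIdealOf ⟨y, hyW⟩).isPrime).1 hsub
    have hyW : y ∈ W := hEW (hE.mem_toFinset.1 hy)
    simp only [pr, dif_pos hyW] at hle
    have : hW.primeIdealOf ⟨y, hyW⟩ ∈ (O'.carrier : Set (PrimeSpectrum Γ(X, W)))ᶜ := by
      exact hI.ge (fun g hg => hle (Ideal.subset_span hg))
    refine this ?_
    change hW.fromSpec _ ∈ O
    rw [hW.fromSpec_primeIdealOf]
    exact hEO (hE.mem_toFinset.1 hy)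
  refine ⟨g, ?_, fun y hy => ?_⟩
  · rw [← hW.fromSpec_image_basicOpen]
    rintro _ ⟨p, hp, rfl⟩
    by_contra hpO
    have : p ∈ (O'.carrier : Set (PrimeSpectrum Γ(X, W)))ᶜ := hpO
    have h' : p ∈ PrimeSpectrum.zeroLocus (Ideal.span I : Set Γ(X, W)) := by
      rw [PrimeSpectrum.zeroLocus_span]; exact hI.le this
    exact hp (h' hgI)
  · rw [← hW.fromSpec_image_basicOpen]
    refine ⟨hW.primeIdealOf ⟨y, hEW hy⟩, ?_, hW.fromSpec_primeIdealOf _⟩
    have := hg y hy
    rw [show pr y = (hW.primeIdealOf ⟨y, hEW hy⟩).asIdeal from dif_pos (hEW hy)] at this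
    exact this

/-- Finite sets of points of a separated quasi-finite scheme over an affine scheme lie in affine
opens. -/
theorem exists_affine_of_finite {X Y : Scheme.{u}} (f : X ⟶ Y) [IsAffine Y] [LocallyQuasiFinite f]
    [LocallyOfFiniteType f] [IsSeparated f] {E : Set X} (hE : E.Finite) :
    ∃ W : X.Opens, IsAffineOpen W ∧ E ⊆ W := by
  choose A hA hyA hAX using fun y : X =>
    exists_isAffineOpen_mem_and_subset (X := X) (x := y) (U := ⊤) trivial
  let Z₀ : X.Opens := ⨆ y ∈ hE.toFinset, A y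
  have hc : IsCompact (Z₀ : Set X) := by
    simp only [Z₀, TopologicalSpace.Opens.coe_iSup]
    exact hE.toFinset.isCompact_biUnion fun y _ => (hA y).isCompact
  have : CompactSpace ↥(Z₀ : Scheme.{u}) := isCompact_iff_compactSpace.1 hc
  have : LocallyQuasiFinite (Z₀.ι ≫ f) := inferInstance
  have : (Z₀ : Scheme.{u}).IsQuasiAffine := by
    have : QuasiCompact (Z₀.ι ≫ f) := (quasiCompact_iff_compactSpace _).2 ‹_›
    have : IsAffine (Z₀.ι ≫ f).normalization := isAffine_of_isAffineHom (Z₀.ι ≫ f).fromNormalization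
    exact Scheme.IsQuasiAffine.of_isImmersion (Z₀.ι ≫ f).toNormalization
  let ι := (Z₀ : Scheme.{u}).toSpecΓ
  let E' : Set ↥(Spec Γ((Z₀ : Scheme.{u}), ⊤)) := ι '' (Z₀.ι ⁻¹' E)
  have hE' : E'.Finite := (hE.preimage Z₀.ι.isOpenEmbedding.injective.injOn).image _
  obtain ⟨g, hg, hEg⟩ := exists_basicOpen_of_finite (isAffineOpen_top (Spec Γ((Z₀ : Scheme.{u}), ⊤)))
    (O := ι.opensRange) hE' (Set.subset_univ _) (Set.image_subset_range _ _)
  let W₀ := (Spec Γ((Z₀ : Scheme.{u}), ⊤)).basicOpen g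
  have h₁ : IsAffineOpen (ι ⁻¹ᵁ W₀) := ((isAffineOpen_top _).basicOpen g).preimage_of_isOpenImmersion ι hg
  refine ⟨Z₀.ι ''ᵁ (ι ⁻¹ᵁ W₀), h₁.image_of_isOpenImmersion Z₀.ι, fun y hy => ?_⟩
  have hyZ : y ∈ Z₀ := by
    simp only [Z₀, TopologicalSpace.Opens.mem_iSup]
    exact ⟨y, hE.mem_toFinset.2 hy, hyA y⟩
  exact ⟨⟨y, hyZ⟩, hEg ⟨_, hy, rfl⟩, rfl⟩

variable {U R : Scheme.{u}} {s t : R ⟶ U}

/-- A finite class contained in an affine open has an invariant affine open neighbourhood. -/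
theorem SchEqv.exists_invariant_affine (he : SchEqv s t) [IsFinite s] [Flat s]
    [LocallyOfFinitePresentation s] [IsFinite t] (z : U) {W : U.Opens} (hW : IsAffineOpen W)
    (hzW : t '' (s ⁻¹' {z}) ⊆ W) :
    ∃ V : U.Opens, IsAffineOpen V ∧ z ∈ V ∧ s ⁻¹ᵁ V = t ⁻¹ᵁ V := by
  obtain ⟨e, he₁, he₂⟩ := he.refl
  obtain ⟨i, hi₁, hi₂⟩ := he.symm
  have trans_pt : ∀ r r' : R, t r = s r' → ∃ c : R, s c = s r ∧ t c = t r' := fun r r' h => by
    obtain ⟨q, hq₁, hq₂⟩ := Scheme.Pullback.exists_preimage_pullback (f := t) (g := s) r r' h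
    obtain ⟨c, hc₁, hc₂⟩ := he.trans (pullback.fst t s) (pullback.snd t s) pullback.condition
    refine ⟨c q, ?_, ?_⟩
    · rw [← Scheme.Hom.comp_apply, hc₁, Scheme.Hom.comp_apply, hq₁]
    · rw [← Scheme.Hom.comp_apply, hc₂, Scheme.Hom.comp_apply, hq₂]
  have sat : ∀ (P : Set U), ∀ r : R, (∀ r', s r' = s r → t r' ∈ P) ↔ ∀ r', s r' = t r → t r' ∈ P := by
    intro P r
    refine ⟨fun h r' hr' => ?_, fun h r' hr' => ?_⟩
    · obtain ⟨c, hc₁, hc₂⟩ := trans_pt r r' hr'.symm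
      exact hc₂ ▸ h c hc₁
    · obtain ⟨c, hc₁, hc₂⟩ := trans_pt (i r) r' (by
        rw [← Scheme.Hom.comp_apply, hi₂]; exact hr'.symm)
      refine hc₂ ▸ h c (hc₁.trans ?_)
      rw [← Scheme.Hom.comp_apply, hi₁]
  have hclass : (t '' (s ⁻¹' {z})).Finite := (s.finite_preimage_singleton z).image _
  -- the invariant open inside `W`
  let Winv : U.Opens := ⟨(s '' (t ⁻¹' (W : Set U)ᶜ))ᶜ,
    (s.isClosedMap _ (W.2.isClosed_compl.preimage t.continuous)).isOpen_compl⟩
  have hWinv : ∀ y, y ∈ Winv ↔ ∀ r, s r = y → t r ∈ W := fun y => by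
    change y ∉ s '' (t ⁻¹' (W : Set U)ᶜ) ↔ _
    simp only [Set.mem_image, Set.mem_preimage, Set.mem_compl_iff, not_exists, not_and]
    exact ⟨fun h r hr => by_contra fun hn => h r hn hr, fun h r hn hr => hn (h r hr)⟩
  have hWW : Winv ≤ W := fun y hy => by
    have := (hWinv y).1 hy (e y) (by rw [← Scheme.Hom.comp_apply, he₁]; rfl)
    rwa [← Scheme.Hom.comp_apply, he₂] at this
  have hclassWinv : t '' (s ⁻¹' {z}) ⊆ Winv := by
    rintro _ ⟨r, hr, rfl⟩
    rw [SetLike.mem_coe, hWinv]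
    refine (sat (W : Set U) r).1 ?_
    exact fun r' hr' => hzW ⟨r', hr'.trans hr, rfl⟩
  obtain ⟨g, hgW, hgE⟩ := exists_basicOpen_of_finite hW hclass hzW hclassWinv
  let W' := U.basicOpen g
  have hW' : IsAffineOpen W' := hW.basicOpen g
  have hR : IsAffineOpen (s ⁻¹ᵁ W') := hW'.preimage s
  have htW : s ⁻¹ᵁ W' ≤ t ⁻¹ᵁ W := fun r hr => (hWinv (s r)).1 (hgW hr) r rfl
  let φ := s.appLE W' (s ⁻¹ᵁ W') le_rfl
  let h : Γ(R, s ⁻¹ᵁ W') := (t.appLE W (s ⁻¹ᵁ W') htW).hom g
  letI := φ.hom.toAlgebra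
  have hfin : Module.Finite Γ(U, W') Γ(R, s ⁻¹ᵁ W') := by
    refine RingHom.finite_algebraMap.1 ?_
    change φ.hom.Finite
    rw [show φ = s.app W' from (Scheme.Hom.app_eq_appLE s).symm]
    exact s.finite_app W' hW'
  have hfl : Module.Flat Γ(U, W') Γ(R, s ⁻¹ᵁ W') :=
    RingHom.flat_algebraMap_iff.1 (HasRingHomProperty.appLE @Flat s inferInstance ⟨W', hW'⟩ ⟨_, hR⟩ le_rfl)
  have hfp : Algebra.FinitePresentation Γ(U, W') Γ(R, s ⁻¹ᵁ W') :=
    RingHom.finitePresentation_algebraMap.1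
      (HasRingHomProperty.appLE @LocallyOfFinitePresentation s inferInstance ⟨W', hW'⟩ ⟨_, hR⟩ le_rfl)
  have : Module.FinitePresentation Γ(U, W') Γ(R, s ⁻¹ᵁ W') :=
    Module.FinitePresentation.of_finite_of_finitePresentation _ _
  have : Module.Projective Γ(U, W') Γ(R, s ⁻¹ᵁ W') := Module.Flat.projective_of_finitePresentation
  obtain ⟨Rr⟩ := nonempty_retr (A := Γ(U, W')) (B := Γ(R, s ⁻¹ᵁ W'))
  let c := (1 + Rr.mat (h - 1)).det
  have hmem : ∀ (r : R) (hr : r ∈ s ⁻¹ᵁ W'), t r ∈ W' ↔ h ∉ (hR.primeIdealOf ⟨r, hr⟩).asIdeal := by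
    intro r hr
    have h₁ := hW.comap_primeIdealOf_appLE (f := t) (x := r) W (s ⁻¹ᵁ W') hR htW hr
    have h₂ : t r ∈ W' ↔ g ∉ (hW.primeIdealOf ⟨t r, htW hr⟩).asIdeal := by
      have := hW.fromSpec_preimage_basicOpen g
      refine (iff_of_eq (congrArg (· ∈ W') (hW.fromSpec_primeIdealOf ⟨t r, htW hr⟩).symm)).trans ?_
      change hW.primeIdealOf ⟨t r, htW hr⟩ ∈ hW.fromSpec ⁻¹ᵁ U.basicOpen g ↔ _
      rw [this]
      rfl
    rw [h₂, ← h₁]
    rfl
  have hV : ∀ y, y ∈ U.basicOpen c ↔ y ∈ W' ∧ ∀ r, s r = y → t r ∈ W' := by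
    intro y
    refine ⟨fun hy => ?_, fun ⟨hyW, hyr⟩ => ?_⟩
    · have hyW : y ∈ W' := U.basicOpen_le c hy
      refine ⟨hyW, fun r hr => ?_⟩
      have hrW : r ∈ s ⁻¹ᵁ W' := show s r ∈ W' from hr ▸ hyW
      rw [hmem r hrW]
      intro hh
      have hcy : hW'.primeIdealOf ⟨y, hyW⟩ ∈ hW'.fromSpec ⁻¹ᵁ U.basicOpen c := by
        change hW'.fromSpec _ ∈ U.basicOpen c
        rw [hW'.fromSpec_primeIdealOf]
        exact hy
      rw [hW'.fromSpec_preimage_basicOpen] at hcy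
      refine hcy ((Rr.det_mem_iff h _).2 ⟨_, (hR.primeIdealOf ⟨r, hrW⟩).isPrime, ?_, hh⟩)
      subst hr
      exact congrArg PrimeSpectrum.asIdeal (hW'.comap_primeIdealOf_appLE (f := s) (x := r) W' _ hR le_rfl hrW)
    · have hcy : hW'.primeIdealOf ⟨y, hyW⟩ ∈ PrimeSpectrum.basicOpen c := by
        intro hc
        obtain ⟨P, hP, hPq, hhP⟩ := (Rr.det_mem_iff h _).1 hc
        let p : PrimeSpectrum Γ(R, s ⁻¹ᵁ W') := ⟨P, hP⟩
        have hp : hR.fromSpec p ∈ s ⁻¹ᵁ W' := by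
          rw [← SetLike.mem_coe, ← hR.range_fromSpec]; exact ⟨p, rfl⟩
        have hpp : hR.primeIdealOf ⟨hR.fromSpec p, hp⟩ = p :=
          hR.fromSpec.isOpenEmbedding.injective (hR.fromSpec_primeIdealOf _)
        have hsy : s (hR.fromSpec p) = y := by
          have h₁ := hW'.comap_primeIdealOf_appLE (f := s) (x := hR.fromSpec p) W' _ hR le_rfl hp
          rw [hpp] at h₁
          have h₂ : PrimeSpectrum.comap φ.hom p = hW'.primeIdealOf ⟨y, hyW⟩ := PrimeSpectrum.ext hPq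
          have := congrArg (hW'.fromSpec) (h₁.symm.trans h₂)
          rwa [hW'.fromSpec_primeIdealOf, hW'.fromSpec_primeIdealOf] at this
        refine (hmem _ hp).1 (hyr _ hsy) ?_
        rw [hpp]
        exact hhP
      rw [← hW'.fromSpec_image_basicOpen]
      exact ⟨_, hcy, hW'.fromSpec_primeIdealOf ⟨y, hyW⟩⟩
  have hV' : ∀ y, y ∈ U.basicOpen c ↔ ∀ r, s r = y → t r ∈ W' := fun y => (hV y).trans
    ⟨fun h => h.2, fun h => ⟨by
      have := h (e y) (by rw [← Scheme.Hom.comp_apply, he₁]; rfl)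
      rwa [← Scheme.Hom.comp_apply, he₂] at this, h⟩⟩
  refine ⟨U.basicOpen c, hW'.basicOpen c, (hV' z).2 fun r hr => hgE ⟨r, hr, rfl⟩, ?_⟩
  ext r
  change s r ∈ U.basicOpen c ↔ t r ∈ U.basicOpen c
  rw [hV', hV']
  exact sat (W' : Set U) r

end Groth.Agent.FinQuot
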