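import Mathlib.RingTheory.TensorProduct.Basic
import Mathlib.LinearAlgebra.Matrix.SchurComplement
import Mathlib.LinearAlgebra.Matrix.Charpoly.Basic
import Mathlib.LinearAlgebra.Matrix.ToLin
import Mathlib.Algebra.Module.FinitePresentation
import Mathlib.Algebra.Category.Ring.Epi

/-!
# Finite locally free equivalence relations on affine schemes

An equivalence relation is given by two ring maps `algebraMap A B, t : A → B` such that the pairs
`(φ ∘ algebraMap A B, φ ∘ t)` form an equivalence relation on `Hom(A, L)` for every ring `L`, with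
`φ` determined by the pair.  When `B` is finite projective over `A`, we study the base changes of
`B` along the points of `A`, with the operators "multiplication by `t a`" written as matrices.
-/

universe u

namespace Groth.Agent.FinQuot

open TensorProduct Matrix CategoryTheory

variable {A B : Type u} [CommRing A] [CommRing B] [Algebra A B]

/-- An equivalence relation `Spec B ⇉ Spec A` with source map `algebraMap A B` and target map `t`. -/
structure FinEqv (t : A →+* B) : Prop where
  ext : ∀ {L : Type u} [CommRing L] (φ ψ : B →+* L),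
    φ.comp (algebraMap A B) = ψ.comp (algebraMap A B) → φ.comp t = ψ.comp t → φ = ψ
  refl : ∃ e : B →+* A, e.comp (algebraMap A B) = RingHom.id A ∧ e.comp t = RingHom.id A
  symm : ∃ ι : B →+* B, ι.comp (algebraMap A B) = t ∧ ι.comp t = algebraMap A B
  trans : ∀ {L : Type u} [CommRing L] (φ ψ : B →+* L), φ.comp t = ψ.comp (algebraMap A B) →
    ∃ χ : B →+* L, χ.comp (algebraMap A B) = φ.comp (algebraMap A B) ∧ χ.comp t = ψ.comp t

/-- A ring `L` regarded as an algebra over `A` via `x : A → L`. -/
def Tw {L : Type u} [CommRing L] (_ : A →+* L) : Type u := L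

variable {L : Type u} [CommRing L] (x : A →+* L)

instance : CommRing (Tw x) := inferInstanceAs (CommRing L)
instance : Algebra A (Tw x) := RingHom.toAlgebra (R := A) (S := L) x
instance : Algebra L (Tw x) := inferInstanceAs (Algebra L L)
instance : SMulCommClass A L (Tw x) :=
  ⟨fun a l (z : L) => show x a * (l * z) = l * (x a * z) by ring⟩
instance : SMulCommClass L A (Tw x) :=
  ⟨fun l a (z : L) => show l * (x a * z) = x a * (l * z) by ring⟩

/-- The base change of `B` along `x : A → L`. -/
abbrev Fib (B : Type u) [CommRing B] [Algebra A B] : Type u := Tw x ⊗[A] B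

/-- The canonical map to the base change. -/
def inB : B →+* Fib x B := (Algebra.TensorProduct.includeRight (R := A) (A := Tw x)).toRingHom

theorem inB_apply (b : B) : inB x b = (1 : Tw x) ⊗ₜ[A] b := rfl

theorem inB_algebraMap (a : A) :
    inB x (algebraMap A B a) = algebraMap L (Fib x B) (x a) := by
  rw [inB_apply, Algebra.TensorProduct.algebraMap_apply, Algebra.algebraMap_eq_smul_one,
    tmul_smul, smul_tmul']
  congr 1
  exact mul_one (x a)

theorem inB_smul (a : A) (b : B) : inB x (a • b) = x a • inB x b := by
  rw [Algebra.smul_def, map_mul, inB_algebraMap, ← Algebra.smul_def]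

theorem tmul_eq_smul (l : Tw x) (b : B) : l ⊗ₜ[A] b = (show L from l) • inB x b := by
  rw [inB_apply, smul_tmul']
  congr 1
  exact (mul_one (show L from l)).symm

theorem fib_induction {motive : Fib x B → Prop} (z : Fib x B) (zero : motive 0)
    (smul_inB : ∀ (l : L) (b : B), motive (l • inB x b))
    (add : ∀ z w, motive z → motive w → motive (z + w)) : motive z := by
  induction z using TensorProduct.induction_on with
  | zero => exact zero
  | add z w hz hw => exact add z w hz hw
  | tmul l b => rw [tmul_eq_smul]; exact smul_inB _ _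

theorem fib_linearMap_ext {M : Type u} [AddCommGroup M] [Module L M] {f g : Fib x B →ₗ[L] M}
    (h : ∀ b, f (inB x b) = g (inB x b)) : f = g := by
  refine LinearMap.ext fun z => fib_induction x (motive := fun z => f z = g z) z
    (by rw [map_zero, map_zero]) (fun l b => by rw [map_smul, map_smul, h])
    fun z w hz hw => by rw [map_add, map_add, hz, hw]

/-- Additive maps out of a base change. -/
def liftAdd {M : Type u} [AddCommGroup M] [Module L M] (g : B →+ M)
    (hg : ∀ (a : A) (b : B), g (a • b) = x a • g b) : Fib x B →+ M :=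
  TensorProduct.liftAddHom (R := A) (M := Tw x) (N := B)
    { toFun := fun l => (show L from l) • g
      map_zero' := zero_smul L g
      map_add' := fun l l' => add_smul (show L from l) (show L from l') g }
    fun a l b => by
      change (x a * (show L from l)) • g b = (show L from l) • g (a • b)
      rw [hg, smul_smul, mul_comm]

/-- Linear maps out of a base change. -/
def liftLin {M : Type u} [AddCommGroup M] [Module L M] (g : B →+ M)
    (hg : ∀ (a : A) (b : B), g (a • b) = x a • g b) : Fib x B →ₗ[L] M where
  toFun := liftAdd x g hg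
  map_add' := map_add (liftAdd x g hg)
  map_smul' l z := by
    induction z using TensorProduct.induction_on with
    | zero => simp only [smul_zero, map_zero, RingHom.id_apply]
    | add z w hz hw =>
      simp only [RingHom.id_apply] at hz hw ⊢
      rw [smul_add, map_add, hz, hw, map_add, smul_add]
    | tmul l' b =>
      change (l * (show L from l')) • g b = l • (show L from l') • g b
      rw [smul_smul]

theorem liftLin_inB {M : Type u} [AddCommGroup M] [Module L M] (g : B →+ M)
    (hg : ∀ (a : A) (b : B), g (a • b) = x a • g b) (b : B) : liftLin x g hg (inB x b) = g b :=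
  one_smul L (g b)

/-- Algebra maps out of a base change. -/
def liftAlg {M : Type u} [CommRing M] [Algebra L M] (ψ : B →+* M)
    (hψ : ψ.comp (algebraMap A B) = (algebraMap L M).comp x) : Fib x B →ₐ[L] M :=
  AlgHom.ofLinearMap (liftLin x ψ.toAddMonoidHom fun a b => by
      change ψ (a • b) = x a • ψ b
      rw [Algebra.smul_def, Algebra.smul_def, map_mul]
      exact congrArg (· * ψ b) (RingHom.congr_fun hψ a))
    (by
      have h1 : (1 : Fib x B) = inB x 1 := (map_one _).symm
      rw [h1, liftLin_inB]
      exact map_one ψ)
    fun z w => by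
      induction z using fib_induction x with
      | zero => simp
      | add z₁ z₂ h₁ h₂ => rw [add_mul, map_add, map_add, h₁, h₂, add_mul]
      | smul_inB l b =>
        induction w using fib_induction x with
        | zero => simp
        | add w₁ w₂ h₁ h₂ => rw [mul_add, map_add, map_add, h₁, h₂, mul_add]
        | smul_inB l' b' =>
          rw [smul_mul_smul_comm, ← map_mul, map_smul, map_smul, map_smul, liftLin_inB, liftLin_inB,
            liftLin_inB, smul_mul_smul_comm]
          exact congrArg _ (map_mul ψ b b')

theorem liftAlg_inB {M : Type u} [CommRing M] [Algebra L M] (ψ : B →+* M)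
    (hψ : ψ.comp (algebraMap A B) = (algebraMap L M).comp x) (b : B) :
    liftAlg x ψ hψ (inB x b) = ψ b := by
  exact liftLin_inB x ψ.toAddMonoidHom (fun a b => by
    change ψ (a • b) = x a • ψ b
    rw [Algebra.smul_def, Algebra.smul_def, map_mul]
    exact congrArg (· * ψ b) (RingHom.congr_fun hψ a)) b

/-- The point of the base change induced by a point of `B` over `x`. -/
theorem exists_iso_of_rel {t : A →+* B} (h : FinEqv t) {x y : A →+* L} (φ : B →+* L)
    (hs : φ.comp (algebraMap A B) = x) (ht : φ.comp t = y) :
    ∃ e : Fib x B ≃ₐ[L] Fib y B, ∀ a, e (inB x (t a)) = inB y (t a) := by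
  obtain ⟨ι, hι₁, hι₂⟩ := h.symm
  have hy : (inB (B := B) y).comp (algebraMap A B) = (algebraMap L (Fib y B)).comp y :=
    RingHom.ext (inB_algebraMap y)
  have hx : (inB (B := B) x).comp (algebraMap A B) = (algebraMap L (Fib x B)).comp x :=
    RingHom.ext (inB_algebraMap x)
  obtain ⟨χ, hχ₁, hχ₂⟩ := h.trans ((algebraMap L (Fib y B)).comp φ) (inB y)
    (by rw [hy, RingHom.comp_assoc, ht])
  obtain ⟨χ', hχ'₁, hχ'₂⟩ := h.trans (((algebraMap L (Fib x B)).comp φ).comp ι) (inB x)
    (by rw [hx, RingHom.comp_assoc, RingHom.comp_assoc, hι₂, hs])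
  rw [RingHom.comp_assoc, hs] at hχ₁
  rw [RingHom.comp_assoc, RingHom.comp_assoc, hι₁, ht] at hχ'₁
  let f := liftAlg x χ hχ₁
  let g := liftAlg y χ' hχ'₁
  have hf : ∀ a, f (inB x (t a)) = inB y (t a) := fun a => by
    rw [liftAlg_inB]; exact RingHom.congr_fun hχ₂ a
  have hg : ∀ a, g (inB y (t a)) = inB x (t a) := fun a => by
    rw [liftAlg_inB]; exact RingHom.congr_fun hχ'₂ a
  have hgf : ∀ b, g (f (inB x b)) = inB x b := RingHom.congr_fun
    (h.ext ((g.comp f).toRingHom.comp (inB x)) (inB x)
      (RingHom.ext fun a => by
        simp [inB_algebraMap, -Algebra.TensorProduct.algebraMap_apply])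
      (RingHom.ext fun a => by simp [hf, hg]))
  have hfg : ∀ b, f (g (inB y b)) = inB y b := RingHom.congr_fun
    (h.ext ((f.comp g).toRingHom.comp (inB y)) (inB y)
      (RingHom.ext fun a => by
        simp [inB_algebraMap, -Algebra.TensorProduct.algebraMap_apply])
      (RingHom.ext fun a => by simp [hf, hg]))
  exact ⟨AlgEquiv.ofAlgHom f g
    (AlgHom.toLinearMap_injective (fib_linearMap_ext y hfg))
    (AlgHom.toLinearMap_injective (fib_linearMap_ext x hgf)), hf⟩

/-- The translates generate: `t A` spans `B` over `A`. -/
theorem span_range_eq_top [Module.Finite A B] {t : A →+* B} (h : FinEqv t) :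
    Submodule.span A (Set.range t) = ⊤ := by
  let T := Algebra.adjoin A (Set.range t)
  have hf : (T.val.toRingHom).Finite := by
    refine RingHom.Finite.of_comp_finite (f := algebraMap A T) ?_
    rw [show T.val.toRingHom.comp (algebraMap A T) = algebraMap A B from T.val.comp_algebraMap]
    exact RingHom.finite_algebraMap.2 inferInstance
  have : Epi (CommRingCat.ofHom T.val.toRingHom) := ⟨fun {Z} φ ψ e => by
    ext : 1
    refine h.ext φ.hom ψ.hom (RingHom.ext fun a => ?_) (RingHom.ext fun a => ?_)
    · exact congrArg (fun f : CommRingCat.of T ⟶ Z => f.hom (algebraMap A T a)) e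
    · exact congrArg (fun f : CommRingCat.of T ⟶ Z =>
        f.hom ⟨t a, Algebra.subset_adjoin ⟨a, rfl⟩⟩) e⟩
  have hs := RingHom.surjective_of_epi_of_finite (CommRingCat.ofHom T.val.toRingHom) hf
  have hcl : (Submonoid.closure (Set.range t) : Set B) = Set.range t :=
    congrArg SetLike.coe (Submonoid.closure_eq (MonoidHom.mrange t.toMonoidHom))
  rw [← hcl, ← Algebra.adjoin_eq_span]
  refine eq_top_iff.2 fun b _ => ?_
  obtain ⟨⟨b, hb⟩, rfl⟩ := hs b
  exact hb

end Groth.Agent.FinQuot
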