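import Groth.Agent.Lib.FinQuot.Operators
import Mathlib.RingTheory.LocalRing.ResidueField.Ideal
import Mathlib.RingTheory.Localization.Integer
import Mathlib.LinearAlgebra.Matrix.Adjugate
import Mathlib.LinearAlgebra.Dual.Lemmas

/-!
# Where finitely many translates form a basis
-/

universe u

namespace Groth.Agent.FinQuot

open TensorProduct Matrix

variable {A B : Type u} [CommRing A] [CommRing B] [Algebra A B] (R : Retr A B) {n : ℕ}
  (v : Fin n → B)

/-- The coordinates of a family of elements of `B`. -/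
def Retr.coord : Matrix (Fin R.N) (Fin n) A := Matrix.of fun j k => R.i (v k) j

theorem Retr.mat_one_mul_coord : R.mat 1 * R.coord v = R.coord v := by
  ext j k
  have := congrFun (R.mat_mulVec_i 1 (v k)) j
  rw [one_mul] at this
  exact this

theorem Retr.mat_one_mul_mat_one : R.mat 1 * R.mat 1 = R.mat 1 := by rw [← R.mat_mul, mul_one]

variable {L : Type u} [CommRing L] (x : A →+* L)

/-- The map sending the standard basis to the images of `v` in a base change. -/
def lc : (Fin n → L) →ₗ[L] Fib x B := Fintype.linearCombination L fun k => inB x (v k)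

/-- `v` is a basis after base change along `x`. -/
def Good : Prop := Function.Bijective (lc v x)

theorem Retr.iL_lc (w : Fin n → L) : R.iL x (lc v x w) = (R.coord v).map x *ᵥ w := by
  funext j
  simp only [lc, Fintype.linearCombination_apply, map_sum, map_smul, R.iL_inB, Finset.sum_apply,
    Pi.smul_apply, smul_eq_mul, Matrix.mulVec, dotProduct, Matrix.map_apply, Retr.coord, Matrix.of_apply]
  exact Finset.sum_congr rfl fun k _ => mul_comm _ _

theorem Retr.iL_injective : Function.Injective (R.iL x) :=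
  Function.LeftInverse.injective (R.rL_iL x)

theorem Retr.mat_one_mulVec_iL (z : Fib x B) : (R.mat 1).map x *ᵥ R.iL x z = R.iL x z := by
  rw [← R.toMatrix'_mulLeft, ← Matrix.toLin'_apply, Matrix.toLin'_toMatrix', LinearMap.comp_apply,
    LinearMap.comp_apply, R.rL_iL, LinearMap.mulLeft_apply, map_one, one_mul]

theorem Retr.good_of_inv (W : Matrix (Fin n) (Fin R.N) L)
    (h1 : W * (R.coord v).map x = 1)
    (h2 : (R.coord v).map x * W * (R.mat 1).map x = (R.mat 1).map x) : Good v x := by
  refine Function.bijective_iff_has_inverse.2 ⟨fun z => W *ᵥ R.iL x z, fun w => ?_, fun z => ?_⟩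
  · simp only [R.iL_lc, mulVec_mulVec, h1, one_mulVec]
  · refine R.iL_injective x ?_
    rw [R.iL_lc]
    conv_rhs => rw [← R.mat_one_mulVec_iL x z, ← h2]
    rw [← mulVec_mulVec, ← mulVec_mulVec, R.mat_one_mulVec_iL]

theorem Retr.exists_inv_of_good (hg : Good v x) : ∃ W : Matrix (Fin n) (Fin R.N) L,
    W * (R.coord v).map x = 1 ∧ (R.coord v).map x * W * (R.mat 1).map x = (R.mat 1).map x := by
  let e := LinearEquiv.ofBijective (lc v x) hg
  let W := LinearMap.toMatrix' (e.symm.toLinearMap ∘ₗ R.rL x)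
  have hW : ∀ z : Fib x B, W *ᵥ R.iL x z = e.symm z := fun z => by
    rw [← Matrix.toLin'_apply, Matrix.toLin'_toMatrix', LinearMap.comp_apply, R.rL_iL]
    rfl
  refine ⟨W, ext_of_mulVec_single fun k => ?_, ext_of_mulVec_single fun j => ?_⟩
  · rw [← mulVec_mulVec, ← R.iL_lc, hW, one_mulVec]
    exact e.symm_apply_apply _
  · have h : (R.mat 1).map x *ᵥ Pi.single j (1 : L) = R.iL x (R.rL x (Pi.single j 1)) := by
      rw [← R.toMatrix'_mulLeft, ← Matrix.toLin'_apply, Matrix.toLin'_toMatrix', LinearMap.comp_apply,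
        LinearMap.comp_apply, LinearMap.mulLeft_apply, map_one, one_mul]
    rw [← mulVec_mulVec, h, ← mulVec_mulVec, hW, ← R.iL_lc]
    exact congrArg (R.iL x) (e.apply_symm_apply _)

include R in
/-- Being a basis is stable under base change. -/
theorem good_comp {L' : Type u} [CommRing L'] (g : L →+* L') (hg : Good v x) : Good v (g.comp x) := by
  obtain ⟨W, h1, h2⟩ := R.exists_inv_of_good v x hg
  refine R.good_of_inv v _ (W.map g) ?_ ?_
  · rw [RingHom.coe_comp, ← Matrix.map_map, ← Matrix.map_mul, h1, Matrix.map_one g (map_zero g) (map_one g)]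
  · rw [RingHom.coe_comp, ← Matrix.map_map, ← Matrix.map_map, ← Matrix.map_mul, ← Matrix.map_mul, h2]

include R in
/-- Being a basis descends along extensions of fields. -/
theorem good_of_comp {K K' : Type u} [Field K] [Field K'] (y : A →+* K) (g : K →+* K')
    (hg : Good v (g.comp y)) : Good v y := by
  have hE : (R.coord v).map (g.comp y) = ((R.coord v).map y).map g := by
    rw [Matrix.map_map]; rfl
  constructor
  · intro w w' h
    have h' := congrArg (R.iL y) h
    rw [R.iL_lc, R.iL_lc] at h'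
    have h'' : (R.coord v).map (g.comp y) *ᵥ (g ∘ w) = (R.coord v).map (g.comp y) *ᵥ (g ∘ w') := by
      funext j
      rw [hE, ← RingHom.map_mulVec, ← RingHom.map_mulVec, h']
    rw [← R.iL_lc, ← R.iL_lc] at h''
    exact funext fun k => g.injective (congrFun (hg.1 (R.iL_injective _ h'')) k)
  · intro z
    by_contra hz
    have hz' : R.iL y z ∉ LinearMap.range ((R.coord v).map y).mulVecLin := by
      rintro ⟨w, hw⟩
      exact hz ⟨w, R.iL_injective y (by rw [R.iL_lc]; exact hw)⟩
    obtain ⟨φ, hφz, hφ⟩ := Submodule.exists_dual_map_eq_bot_of_notMem hz' inferInstance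
    let c : Fin R.N → K := fun j => φ (Pi.single j 1)
    have hφc : ∀ u, φ u = c ⬝ᵥ u := fun u => by
      conv_lhs => rw [pi_eq_sum_univ' u]
      simp only [map_sum, map_smul, smul_eq_mul, dotProduct, c]
      exact Finset.sum_congr rfl fun j _ => mul_comm _ _
    have hcE : c ᵥ* (R.coord v).map y = 0 := by
      funext k
      have h0 : φ ((R.coord v).map y *ᵥ Pi.single k 1) = 0 :=
        (Submodule.eq_bot_iff _).1 hφ _ ⟨_, ⟨_, rfl⟩, rfl⟩
      rw [hφc, dotProduct_mulVec, dotProduct_single, mul_one] at h0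
      exact h0
    obtain ⟨W', hW'⟩ := R.exists_inv_of_good v _ hg
    have hzz : g ∘ R.iL y z = (R.mat 1).map (g.comp y) *ᵥ (g ∘ R.iL y z) := by
      funext j
      conv_lhs => rw [← R.mat_one_mulVec_iL y z]
      rw [Function.comp_apply, RingHom.map_mulVec]
      rfl
    have hcg : (g ∘ c) ᵥ* (R.coord v).map (g.comp y) = 0 := by
      funext k
      rw [hE, ← RingHom.map_vecMul, hcE]
      exact map_zero g
    refine hφz (g.injective ?_)
    rw [map_zero, hφc, RingHom.map_dotProduct, hzz, ← hW'.2, dotProduct_mulVec, ← vecMul_vecMul,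
      ← vecMul_vecMul, hcg, zero_vecMul, zero_vecMul, zero_dotProduct]

/-- The ideal of denominators of an inverse of `v`. -/
def Retr.invIdeal : Ideal A where
  carrier := {g | ∃ W : Matrix (Fin n) (Fin R.N) A,
    W * R.coord v = g • 1 ∧ R.coord v * W * R.mat 1 = g • R.mat 1}
  zero_mem' := ⟨0, by simp, by simp⟩
  add_mem' := by
    rintro a b ⟨W, h1, h2⟩ ⟨W', h1', h2'⟩
    exact ⟨W + W', by rw [Matrix.add_mul, h1, h1', add_smul],
      by rw [Matrix.mul_add, Matrix.add_mul, h2, h2', add_smul]⟩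
  smul_mem' := by
    rintro c a ⟨W, h1, h2⟩
    exact ⟨c • W, by rw [Matrix.smul_mul, h1, smul_smul, smul_eq_mul],
      by rw [Matrix.mul_smul, Matrix.smul_mul, h2, smul_smul, smul_eq_mul]⟩

theorem Retr.good_of_mem_invIdeal {g : A} (hg : g ∈ R.invIdeal v) (hu : IsUnit (x g)) : Good v x := by
  obtain ⟨W, h1, h2⟩ := hg
  obtain ⟨w, hw⟩ := hu.exists_left_inv
  have hm : ∀ {m : ℕ} (M : Matrix (Fin m) (Fin m) A), w • (g • M).map x = M.map x := fun M => by
    ext i j
    simp only [Matrix.smul_apply, Matrix.map_apply, smul_eq_mul, map_mul, ← mul_assoc, hw, one_mul]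
  refine R.good_of_inv v x (w • W.map x) ?_ ?_
  · rw [Matrix.smul_mul, ← Matrix.map_mul, h1, hm, Matrix.map_one x (map_zero x) (map_one x)]
  · rw [Matrix.mul_smul, Matrix.smul_mul, ← Matrix.map_mul, ← Matrix.map_mul, h2, hm]

theorem Retr.not_le_of_good (p : Ideal A) [p.IsPrime] (hg : Good v (algebraMap A p.ResidueField)) :
    ¬ R.invIdeal v ≤ p := by
  set E := R.coord v with hE
  set P := R.mat 1 with hP
  let κ := p.ResidueField
  let χ : A →+* κ := algebraMap A κ
  obtain ⟨W, hW1, hW2⟩ := R.exists_inv_of_good v _ hg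
  obtain ⟨b, hb⟩ := IsLocalization.exist_integer_multiples_of_finite (nonZeroDivisors (A ⧸ p))
    (fun jk : Fin n × Fin R.N => W jk.1 jk.2)
  choose w hw using hb
  obtain ⟨D, hD⟩ := Ideal.Quotient.mk_surjective (I := p) b.1
  choose W₀ hW₀ using fun jk => Ideal.Quotient.mk_surjective (I := p) (w jk)
  have hfac : ∀ a, χ a = algebraMap (A ⧸ p) κ (Ideal.Quotient.mk p a) := fun a =>
    IsScalarTower.algebraMap_apply A (A ⧸ p) κ a
  have hχD : χ D ≠ 0 := by
    rw [hfac, hD]
    exact map_ne_zero_of_mem_nonZeroDivisors _ p.injective_algebraMap_quotient_residueField b.2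
  let M : Matrix (Fin n) (Fin R.N) A := Matrix.of fun j k => W₀ (j, k)
  have hM : M.map χ = χ D • W := by
    ext j k
    rw [Matrix.map_apply, Matrix.smul_apply, smul_eq_mul, hfac D, hD, hfac]
    simp only [M, Matrix.of_apply, hW₀]
    exact (hw (j, k)).trans (Algebra.smul_def _ _)
  let d := (M * E).det
  have hME : (M * E).map χ = χ D • (1 : Matrix (Fin n) (Fin n) κ) := by
    rw [Matrix.map_mul, hM, Matrix.smul_mul, hW1]
  have hd : χ d ≠ 0 := by
    rw [RingHom.map_det, RingHom.mapMatrix_apply, hME, det_smul, det_one, mul_one]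
    exact pow_ne_zero _ hχD
  let W' := (M * E).adjugate * M
  have hW'E : W' * E = d • 1 := by rw [Matrix.mul_assoc, adjugate_mul]
  have hPE : P * E = E := R.mat_one_mul_coord v
  have hPP : P * P = P := R.mat_one_mul_mat_one
  let Δ := d • P - E * W' * P
  have hΔ : (d • (1 : Matrix (Fin R.N) (Fin R.N) A) - Δ) * Δ = 0 := by
    have h3 : E * W' * P * (E * W' * P) = d • (E * W' * P) := by
      rw [← Matrix.mul_assoc (E * W' * P), ← Matrix.mul_assoc (E * W' * P),
        Matrix.mul_assoc (E * W') P E, hPE, Matrix.mul_assoc E W' E, hW'E, Matrix.mul_smul,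
        Matrix.mul_one, Matrix.smul_mul, Matrix.smul_mul]
    have h4 : P * (E * W' * P) = E * W' * P := by
      rw [← Matrix.mul_assoc, ← Matrix.mul_assoc, hPE]
    have h5 : E * W' * P * P = E * W' * P := by rw [Matrix.mul_assoc, hPP]
    simp only [Δ, Matrix.sub_mul, Matrix.mul_sub, Matrix.smul_mul, Matrix.mul_smul, Matrix.one_mul,
      h3, h4, h5, hPP, smul_sub, smul_smul]
    abel
  have hχΔ : Δ.map χ = 0 := by
    have hW' : W'.map χ = χ d • W := by
      have hadj : (M * E).adjugate.map χ = ((M * E).map χ).adjugate := RingHom.map_adjugate χ _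
      rw [Matrix.map_mul, hadj, hME, hM, show χ D • W = (χ D • (1 : Matrix (Fin n) (Fin n) κ)) * W by
        rw [Matrix.smul_mul, Matrix.one_mul], ← Matrix.mul_assoc, adjugate_mul, Matrix.smul_mul,
        Matrix.one_mul]
      congr 1
      rw [show d = (M * E).det from rfl, RingHom.map_det, RingHom.mapMatrix_apply, hME]
    rw [show Δ.map χ = (d • P).map χ - (E * W' * P).map χ from Matrix.map_sub _ (map_sub χ) _ _,
      Matrix.map_mul, Matrix.map_mul, hW', Matrix.mul_smul, Matrix.smul_mul, hW2, sub_eq_zero]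
    ext i j
    simp [P, χ, κ]
  let d' := (d • (1 : Matrix (Fin R.N) (Fin R.N) A) - Δ).det
  have hd' : χ d' ≠ 0 := by
    rw [RingHom.map_det, RingHom.mapMatrix_apply,
      Matrix.map_sub _ (map_sub χ), hχΔ, sub_zero, show (d • (1 : Matrix (Fin R.N) (Fin R.N) A)).map χ =
        χ d • 1 by ext i j; simp [Matrix.one_apply, apply_ite χ], det_smul, det_one, mul_one]
    exact pow_ne_zero _ hd
  have hd'Δ : d' • Δ = 0 := by
    rw [← Matrix.one_mul Δ, ← Matrix.smul_mul, ← adjugate_mul, Matrix.mul_assoc, hΔ, Matrix.mul_zero]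
  intro hle
  have hmem : d' * d ∈ R.invIdeal v := ⟨d' • W', by rw [Matrix.smul_mul, hW'E, smul_smul], by
    rw [Matrix.mul_smul, Matrix.smul_mul, mul_smul]
    rw [show E * W' * P = d • P - Δ by simp only [Δ, sub_sub_cancel], smul_sub, hd'Δ, sub_zero]⟩
  refine mul_ne_zero hd' hd ?_
  rw [← map_mul]
  exact Ideal.algebraMap_residueField_eq_zero.2 (hle hmem)

theorem Retr.not_le_iff (p : Ideal A) [p.IsPrime] :
    ¬ R.invIdeal v ≤ p ↔ Good v (algebraMap A p.ResidueField) := by
  refine ⟨fun h => ?_, R.not_le_of_good v p⟩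
  obtain ⟨g, hg, hgp⟩ := SetLike.not_le_iff_exists.1 h
  exact R.good_of_mem_invIdeal v _ hg
    (isUnit_iff_ne_zero.2 fun h0 => hgp (Ideal.algebraMap_residueField_eq_zero.1 h0))

end Groth.Agent.FinQuot
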