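import Groth.Agent.Lib.FinQuot.Good
import Mathlib.RingTheory.QuasiFinite.Basic
import Mathlib.RingTheory.Flat.FaithfullyFlat.Algebra
import Mathlib.RingTheory.Ideal.GoingUp
import Mathlib.Algebra.Module.Projective

/-!
# The quotient by a finite locally free equivalence relation on an affine scheme

If `Spec B ⇉ Spec A` is an equivalence relation with `B` finite projective over `A`, and `C` is the
ring of invariants, then `A` is finite projective and faithfully flat over `C` and
`A ⊗[C] A → B` is bijective.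
-/

universe u

namespace Groth.Agent.FinQuot

open TensorProduct Matrix

variable {A B : Type u} [CommRing A] [CommRing B] [Algebra A B]

section Fibre

variable (R : Retr A B) {L : Type u} [CommRing L] (x : A →+* L)

/-- The matrix of multiplication by an element of a base change. -/
def Retr.matL (z : Fib x B) : Matrix (Fin R.N) (Fin R.N) L :=
  LinearMap.toMatrix' (R.iL x ∘ₗ LinearMap.mulLeft L z ∘ₗ R.rL x)

theorem Retr.matL_mulVec (z : Fib x B) (v : Fin R.N → L) :
    R.matL x z *ᵥ v = R.iL x (z * R.rL x v) := by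
  rw [Retr.matL, ← Matrix.toLin'_apply, Matrix.toLin'_toMatrix']
  rfl

theorem Retr.matL_mul (z w : Fib x B) : R.matL x (z * w) = R.matL x z * R.matL x w := by
  refine ext_of_mulVec_single fun j => ?_
  rw [← mulVec_mulVec, R.matL_mulVec, R.matL_mulVec, R.matL_mulVec, R.rL_iL, mul_assoc]

theorem Retr.map_norm (t : A →+* B) (a : A) :
    x (R.norm t a) = (1 - R.matL x 1 + R.matL x (inB x (t a))).det := by
  rw [Retr.norm, RingHom.map_det, R.mat_sub, map_add, map_one, map_sub, Retr.matL, Retr.matL,
    R.toMatrix'_mulLeft, ← map_one (inB (B := B) x), R.toMatrix'_mulLeft]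
  congr 1
  rw [RingHom.mapMatrix_apply, RingHom.mapMatrix_apply]
  abel

theorem Retr.isUnit_map_norm (t : A →+* B) (a : A) (hu : IsUnit (inB x (t a))) :
    IsUnit (x (R.norm t a)) := by
  obtain ⟨w, hw⟩ := hu.exists_right_inv
  have h1 : ∀ z, R.matL x 1 * R.matL x z = R.matL x z := fun z => by rw [← R.matL_mul, one_mul]
  have h2 : ∀ z, R.matL x z * R.matL x 1 = R.matL x z := fun z => by rw [← R.matL_mul, mul_one]
  refine IsUnit.of_mul_eq_one ((1 - R.matL x 1 + R.matL x w).det) ?_
  rw [R.map_norm, ← det_mul]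
  refine (congrArg Matrix.det ?_).trans det_one
  simp only [Matrix.add_mul, Matrix.mul_add, Matrix.sub_mul, Matrix.mul_sub, Matrix.one_mul,
    Matrix.mul_one, h1, h2, ← R.matL_mul, hw]
  abel

theorem Retr.not_isUnit_map_norm [Nontrivial L] {t : A →+* B} (h : FinEqv t) (a : A) (ha : x a = 0) :
    ¬ IsUnit (x (R.norm t a)) := by
  obtain ⟨e, he₁, he₂⟩ := h.refl
  intro hu
  rw [R.map_norm] at hu
  set Y := 1 - R.matL x 1 + R.matL x (inB x (t a)) with hY
  let v := Y⁻¹ *ᵥ R.iL x 1
  have h1 : inB x (t a) * R.rL x v = 1 := by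
    have h2 : Y *ᵥ v = R.iL x 1 := by
      rw [mulVec_mulVec, Matrix.mul_nonsing_inv _ hu, one_mulVec]
    have h3 := congrArg (R.rL x) h2
    rw [hY, add_mulVec, sub_mulVec, one_mulVec, R.matL_mulVec, R.matL_mulVec, map_add, map_sub,
      R.rL_iL, R.rL_iL, R.rL_iL, one_mul, sub_self, zero_add] at h3
    exact h3
  let ε := liftAlg x (M := L) (x.comp e) (by rw [RingHom.comp_assoc, he₁]; rfl)
  have h4 := congrArg ε h1
  rw [map_mul, map_one, liftAlg_inB, RingHom.comp_apply,
    show e (t a) = a from RingHom.congr_fun he₂ a, ha, zero_mul] at h4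
  exact zero_ne_one h4

end Fibre

section Orbit

variable {t : A →+* B}

/-- Being a basis of translates is invariant under the relation. -/
theorem good_of_rel (h : FinEqv t) {n : ℕ} (a : Fin n → A) {L : Type u} [CommRing L] {x y : A →+* L}
    (φ : B →+* L) (hs : φ.comp (algebraMap A B) = x) (ht : φ.comp t = y)
    (hg : Good (fun k => t (a k)) x) : Good (fun k => t (a k)) y := by
  obtain ⟨e, he⟩ := exists_iso_of_rel h φ hs ht
  have : lc (fun k => t (a k)) y = e.toLinearMap ∘ₗ lc (fun k => t (a k)) x := by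
    refine LinearMap.ext fun w => ?_
    simp [lc, Fintype.linearCombination_apply, he]
  rw [Good, this]
  exact e.bijective.comp hg

theorem exists_good [Module.Finite A B] (h : FinEqv t) {K : Type u} [Field K] (x : A →+* K) :
    ∃ (n : ℕ) (a : Fin n → A), Good (fun k => t (a k)) x := by
  let s : Set (Fib x B) := Set.range fun a => inB x (t a)
  have hs : Submodule.span K s = ⊤ := by
    refine eq_top_iff.2 fun z _ => ?_
    induction z using fib_induction x with
    | zero => exact zero_mem _
    | add z w hz hw => exact add_mem (hz trivial) (hw trivial)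
    | smul_inB l b =>
      refine Submodule.smul_mem _ l ?_
      have hb : b ∈ Submodule.span A (Set.range t) := span_range_eq_top h ▸ Submodule.mem_top
      induction hb using Submodule.span_induction with
      | mem b hb => obtain ⟨a, rfl⟩ := hb; exact Submodule.subset_span ⟨a, rfl⟩
      | zero => rw [map_zero]; exact zero_mem _
      | add b c _ _ hb hc => rw [map_add]; exact add_mem (hb trivial) (hc trivial)
      | smul a b _ hb => rw [inB_smul]; exact Submodule.smul_mem _ _ (hb trivial)
  have : Module.Finite K (Fib x B) := inferInstanceAs (Module.Finite (Tw x) (Tw x ⊗[A] B))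
  obtain ⟨b, hbs, hbspan, hbli⟩ := exists_linearIndependent K s
  have hbfin : b.Finite := hbli.setFinite
  choose a ha using fun z : b => hbs z.2
  have := hbfin.fintype
  let σ := (Fintype.equivFin b).symm
  have hv : (fun k => inB x (t (a (σ k)))) = fun k => ((σ k : b) : Fib x B) := funext fun k => ha _
  refine ⟨Fintype.card b, fun k => a (σ k), ?_, ?_⟩
  · rw [lc, hv]
    exact (hbli.comp σ σ.injective).fintypeLinearCombination_injective
  · rw [← LinearMap.range_eq_top, lc, Fintype.range_linearCombination, hv,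
      show Set.range (fun k => ((σ k : b) : Fib x B)) = b by
        rw [← Function.comp_def, σ.surjective.range_comp, Subtype.range_coe], hbspan, hs]

/-- Near any prime there is an invariant function over whose nonvanishing locus finitely many
translates form a basis. -/
theorem exists_invariant_mem_invIdeal [Module.Finite A B] (h : FinEqv t) (R : Retr A B) (p : Ideal A)
    [p.IsPrime] : ∃ (n : ℕ) (a : Fin n → A) (c : A),
      c ∈ RingHom.eqLocus (algebraMap A B) t ∧ c ∉ p ∧ c ∈ R.invIdeal (fun k => t (a k)) := by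
  obtain ⟨n, a, ha⟩ := exists_good h (algebraMap A p.ResidueField)
  set I := R.invIdeal (fun k => t (a k))
  let Q : Set (Ideal A) := Ideal.comap t '' p.primesOver B
  have hQ : Q.Finite := (Algebra.QuasiFinite.finite_primesOver p).image _
  have hQI : ∀ q ∈ Q, q.IsPrime ∧ ¬ I ≤ q := by
    rintro _ ⟨r, hr, rfl⟩
    have := hr.1
    refine ⟨inferInstance, ?_⟩
    rw [R.not_le_iff]
    have hp : p = r.comap (algebraMap A B) := hr.2.over
    refine good_of_comp R _ _ (Ideal.ResidueField.map (r.comap t) r t rfl) ?_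
    refine good_of_rel h a (algebraMap B r.ResidueField)
      (x := (algebraMap B r.ResidueField).comp (algebraMap A B)) rfl ?_ ?_
    · refine RingHom.ext fun z => ?_
      simp only [RingHom.comp_apply, Ideal.ResidueField.map_algebraMap]
    · rw [show (algebraMap B r.ResidueField).comp (algebraMap A B) =
        (Ideal.ResidueField.map p r (algebraMap A B) hp).comp (algebraMap A p.ResidueField) from
        RingHom.ext fun z => by simp only [RingHom.comp_apply, Ideal.ResidueField.map_algebraMap]]
      exact good_comp R _ _ _ ha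
  obtain ⟨g, hgI, hg⟩ : ∃ g ∈ I, ∀ q ∈ Q, g ∉ q := by
    by_contra hcon
    push Not at hcon
    obtain ⟨q, hq, hle⟩ := (Ideal.subset_union_prime_finite hQ (f := id) ⊥ ⊥
      fun i hi _ _ => (hQI i hi).1).1 fun g hg => by
        obtain ⟨q, hq, hgq⟩ := hcon g hg
        exact Set.mem_iUnion₂.2 ⟨q, hq, hgq⟩
    exact (hQI q hq).2 hle
  let x := algebraMap A p.ResidueField
  have hu : IsUnit (inB x (t g)) := by
    by_contra hcon
    obtain ⟨P, hP, hgP⟩ := exists_max_ideal_of_mem_nonunits hcon
    let r := P.comap (inB x)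
    refine hg (r.comap t) ⟨r, ⟨inferInstance, ⟨?_⟩⟩, rfl⟩ hgP
    ext z
    rw [Ideal.mem_comap, Ideal.mem_comap, inB_algebraMap, ← Ideal.algebraMap_residueField_eq_zero]
    refine ⟨fun hz => by rw [show x z = 0 from hz, map_zero]; exact zero_mem _, fun hz => ?_⟩
    by_contra hz'
    exact hP.ne_top (Ideal.eq_top_of_isUnit_mem _ hz ((IsUnit.mk0 _ hz').map _))
  have hc : R.norm t g ∈ I.radical := by
    rw [Ideal.radical_eq_sInf, Ideal.mem_sInf]
    rintro q ⟨hIq, hq⟩
    by_contra hcq
    refine R.not_isUnit_map_norm (algebraMap A q.ResidueField) h g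
      (Ideal.algebraMap_residueField_eq_zero.2 (hIq hgI))
      (isUnit_iff_ne_zero.2 fun h0 => hcq (Ideal.algebraMap_residueField_eq_zero.1 h0))
  obtain ⟨m, hm⟩ := hc
  refine ⟨n, a, R.norm t g ^ m, pow_mem (R.norm_invariant h g) m, fun hmem => ?_, hm⟩
  exact (R.isUnit_map_norm x t g hu).ne_zero
    (Ideal.algebraMap_residueField_eq_zero.2 (‹p.IsPrime›.mem_of_pow_mem m hmem))

end Orbit

section Quotient

variable {t : A →+* B}

local notation "C" => RingHom.eqLocus (algebraMap A B) t

/-- `t` as a map of algebras over the invariants. -/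
def tAlg : A →ₐ[C] B := { t with commutes' := fun c => c.2.symm }

/-- The map `A ⊗[C] A → B`. -/
def mulHom : A ⊗[C] A →ₐ[C] B :=
  Algebra.TensorProduct.lift (IsScalarTower.toAlgHom C A B) (tAlg (t := t)) fun _ _ => .all _ _

theorem mulHom_tmul (a a' : A) : mulHom (t := t) (a ⊗ₜ a') = a • t a' := by
  rw [mulHom, Algebra.TensorProduct.lift_tmul, Algebra.smul_def]
  rfl

theorem exists_local_data [Module.Finite A B] (h : FinEqv t) (R : Retr A B) (p : Ideal A) [p.IsPrime] :
    ∃ c : C, (c : A) ∉ p ∧
      c • (LinearMap.id : A →ₗ[C] A) ∈ Submodule.span C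
        {φ : A →ₗ[C] A | ∃ (f : A →ₗ[C] C) (a : A), φ = f.smulRight a} ∧
      ∃ F : B →+ A ⊗[C] A, (∀ z, F (mulHom (t := t) z) = c • z) ∧
        ∀ b, mulHom (t := t) (F b) = c • b := by
  obtain ⟨e, he₁, he₂⟩ := h.refl
  obtain ⟨n, a, c₀, hc₀, hc₀p, W, hW1, hW2⟩ := exists_invariant_mem_invIdeal h R p
  let v : Fin n → B := fun k => t (a k)
  have hexp : ∀ b : B, c₀ • b = ∑ k, (W *ᵥ R.i b) k • v k := by
    intro b
    have h1 : R.coord v *ᵥ (W *ᵥ R.i b) = c₀ • R.i b := by
      have h2 : R.mat 1 *ᵥ R.i b = R.i b := by rw [R.mat_mulVec_i, one_mul]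
      rw [← h2, mulVec_mulVec, mulVec_mulVec, hW2, smul_mulVec, h2]
    have h3 : R.coord v *ᵥ (W *ᵥ R.i b) = R.i (∑ k, (W *ᵥ R.i b) k • v k) := by
      funext j
      simp only [map_sum, map_smul, Finset.sum_apply, Pi.smul_apply, smul_eq_mul, Retr.coord,
        Matrix.mulVec, dotProduct, Matrix.of_apply]
      exact Finset.sum_congr rfl fun k _ => mul_comm _ _
    rw [h3, ← map_smul] at h1
    exact (Function.LeftInverse.injective R.ri h1).symm
  have hinv : ∀ (z : A) (k : Fin n), c₀ * (W *ᵥ R.i (t z)) k ∈ C := by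
    intro z k
    let x := algebraMap A B
    obtain ⟨eq, heq⟩ := exists_iso_of_rel h (RingHom.id B) (RingHom.id_comp x) (RingHom.id_comp t)
    have hx := congrArg eq (congrArg (inB x) (hexp (t z)))
    rw [inB_smul, map_smul, heq, map_sum, map_sum] at hx
    simp only [inB_smul, map_smul, v, heq] at hx
    have hy := congrArg (inB (B := B) t) (hexp (t z))
    rw [inB_smul, map_sum] at hy
    simp only [inB_smul, v] at hy
    have hcc : x c₀ = t c₀ := hc₀
    rw [hcc, hy] at hx
    have hw : ∑ k, (x ((W *ᵥ R.i (t z)) k) - t ((W *ᵥ R.i (t z)) k)) • inB t (t (a k)) = 0 := by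
      simp only [sub_smul, Finset.sum_sub_distrib]
      rw [hx, sub_self]
    have hw2 : (R.coord v).map t *ᵥ (fun k => x ((W *ᵥ R.i (t z)) k) - t ((W *ᵥ R.i (t z)) k)) = 0 := by
      rw [← R.iL_lc, lc, Fintype.linearCombination_apply]
      exact (congrArg (R.iL t) hw).trans (map_zero _)
    have hw3 := congrArg (fun u => W.map t *ᵥ u) hw2
    rw [mulVec_mulVec, mulVec_zero, ← Matrix.map_mul, hW1] at hw3
    have hw4 := congrFun hw3 k
    rw [show (c₀ • (1 : Matrix (Fin n) (Fin n) A)).map t = t c₀ • 1 by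
      ext i j; simp [Matrix.one_apply, apply_ite t], smul_mulVec, one_mulVec, Pi.smul_apply,
      smul_eq_mul, mul_sub, Pi.zero_apply, sub_eq_zero] at hw4
    change x (c₀ * _) = t (c₀ * _)
    rw [map_mul, map_mul, hcc, hw4]
  have hlin : ∀ (z : C) (b : B), R.i (z • b) = (z : A) • R.i b := fun z b => map_smul R.i (z : A) b
  let f : Fin n → (A →ₗ[C] C) := fun k =>
    { toFun := fun z => ⟨c₀ * (W *ᵥ R.i (t z)) k, hinv z k⟩
      map_add' := fun z w => Subtype.ext (by simp [mulVec_add, mul_add])
      map_smul' := fun z w => Subtype.ext (by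
        change c₀ * (W *ᵥ R.i (t (z • w))) k = (z : A) * (c₀ * (W *ᵥ R.i (t w)) k)
        rw [show t (z • w) = z • t w from map_smul (tAlg (t := t)) z w, hlin, mulVec_smul,
          Pi.smul_apply, smul_eq_mul, mul_left_comm]) }
  have hA : ∀ z : A, (c₀ * c₀) * z = ∑ k, (f k z : A) * a k := by
    intro z
    have h1 := congrArg e (congrArg (c₀ • ·) (hexp (t z)))
    simp only [map_sum, Algebra.smul_def, map_mul, v] at h1
    have he : ∀ q, e (algebraMap A B q) = q := RingHom.congr_fun he₁
    have het : ∀ q, e (t q) = q := RingHom.congr_fun he₂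
    simp only [he, het] at h1
    rw [mul_assoc, h1, Finset.mul_sum]
    exact Finset.sum_congr rfl fun k _ => (mul_assoc _ _ _).symm
  let c : C := ⟨c₀ * c₀, mul_mem hc₀ hc₀⟩
  refine ⟨c, fun hmem => (‹p.IsPrime›.mem_or_mem hmem).elim hc₀p hc₀p, ?_, ?_⟩
  · rw [show c • (LinearMap.id : A →ₗ[C] A) = ∑ k, (f k).smulRight (a k) from
      LinearMap.ext fun z => by rw [LinearMap.sum_apply]; exact hA z]
    exact sum_mem fun k _ => Submodule.subset_span ⟨_, _, rfl⟩
  · let F : B →+ A ⊗[C] A :=
      { toFun := fun b => ∑ k, (c₀ * (W *ᵥ R.i b) k) ⊗ₜ[C] a k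
        map_zero' := by simp
        map_add' := fun b b' => by
          simp [mulVec_add, mul_add, TensorProduct.add_tmul, Finset.sum_add_distrib] }
    refine ⟨F, fun z => ?_, fun b => ?_⟩
    · induction z using TensorProduct.induction_on with
      | zero => simp
      | add z w hz hw => rw [map_add, map_add, hz, hw, smul_add]
      | tmul z w =>
        rw [mulHom_tmul]
        change ∑ k, (c₀ * (W *ᵥ R.i (z • t w)) k) ⊗ₜ[C] a k = _
        have hk : ∀ k, (c₀ * (W *ᵥ R.i (z • t w)) k) ⊗ₜ[C] a k = z ⊗ₜ[C] ((f k w : A) * a k) := by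
          intro k
          rw [map_smul, mulVec_smul, Pi.smul_apply, smul_eq_mul, mul_left_comm, mul_comm z,
            show c₀ * (W *ᵥ R.i (t w)) k * z = f k w • z from rfl, TensorProduct.smul_tmul]
          rfl
        simp only [hk, ← TensorProduct.tmul_sum, ← hA]
        rw [smul_tmul', TensorProduct.smul_tmul]
        rfl
    · change mulHom (t := t) (∑ k, (c₀ * (W *ᵥ R.i b) k) ⊗ₜ[C] a k) = _
      rw [map_sum]
      simp only [mulHom_tmul, mul_smul, ← Finset.smul_sum]
      rw [show ∑ k, (W *ᵥ R.i b) k • t (a k) = c₀ • b from (hexp b).symm, smul_smul]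
      rfl

/-- The quotient by a finite locally free equivalence relation of affine schemes. -/
theorem quotient [Module.Finite A B] [Module.Projective A B] (h : FinEqv t) :
    Module.Finite C A ∧ Module.Projective C A ∧ Module.FaithfullyFlat C A ∧
      Function.Bijective (mulHom (t := t)) := by
  obtain ⟨R⟩ := nonempty_retr (A := A) (B := B)
  have : Algebra.IsIntegral C A := ⟨isIntegral_of_eqLocus h⟩
  let S : Submodule C (A →ₗ[C] A) :=
    Submodule.span C {φ : A →ₗ[C] A | ∃ (f : A →ₗ[C] C) (a : A), φ = f.smulRight a}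
  let J : Ideal C := S.comap (LinearMap.toSpanSingleton C (A →ₗ[C] A) LinearMap.id) ⊓
    (Submodule.annihilator (LinearMap.ker (mulHom (t := t)).toLinearMap) ⊓
      Submodule.colon (LinearMap.range (mulHom (t := t)).toLinearMap) (Set.univ : Set B))
  have hJ : J = ⊤ := by
    by_contra hne
    obtain ⟨M, hM, hle⟩ := Ideal.exists_le_maximal J hne
    obtain ⟨P, hP, hPM⟩ := Ideal.exists_ideal_over_maximal_of_isIntegral (S := A) M
      (fun z hz => by
        have hz0 : z = 0 := Subtype.ext (RingHom.mem_ker.1 hz)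
        exact hz0 ▸ zero_mem _)
    obtain ⟨c, hcP, hcS, F, hF1, hF2⟩ := exists_local_data h R P
    refine hcP (?_ : c ∈ P.comap (algebraMap C A))
    rw [hPM]
    refine hle ⟨hcS, ?_, ?_⟩
    · refine Submodule.mem_annihilator.2 fun z hz => ?_
      rw [← hF1 z, show mulHom (t := t) z = 0 from hz, map_zero]
    · exact Submodule.mem_colon.2 fun b _ => ⟨F b, hF2 b⟩
  have h1 : (1 : C) ∈ J := hJ ▸ Submodule.mem_top
  obtain ⟨h1S, h1ker, h1range⟩ := h1
  have h1S' : (LinearMap.id : A →ₗ[C] A) ∈ S := by simpa using h1S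
  obtain ⟨n, u, φ, hsum⟩ := Submodule.mem_span_set'.1 h1S'
  choose f a hfa using fun i => (φ i).2
  let i₁ : A →ₗ[C] (Fin n → C) := LinearMap.pi fun i => u i • f i
  let s₁ : (Fin n → C) →ₗ[C] A := Fintype.linearCombination C a
  have hsi : s₁ ∘ₗ i₁ = LinearMap.id := by
    refine LinearMap.ext fun z => ?_
    conv_rhs => rw [← hsum]
    simp [s₁, i₁, Fintype.linearCombination_apply, hfa, mul_smul]
  have hfin : Module.Finite C A :=
    Module.Finite.of_surjective s₁ fun z => ⟨i₁ z, LinearMap.congr_fun hsi z⟩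
  have hproj : Module.Projective C A := Module.Projective.of_split i₁ s₁ hsi
  refine ⟨hfin, hproj, ?_, ?_⟩
  · refine Module.FaithfullyFlat.of_comap_surjective fun M => ?_
    obtain ⟨P, -, hP, hPM⟩ := Ideal.exists_ideal_over_prime_of_isIntegral (S := A) M.asIdeal ⊥
      (fun z hz => by
        have hz0 : z = 0 := Subtype.ext hz
        exact hz0 ▸ zero_mem _)
    exact ⟨⟨P, hP⟩, PrimeSpectrum.ext hPM⟩
  · constructor
    · rw [injective_iff_map_eq_zero]
      intro z hz
      simpa using Submodule.mem_annihilator.1 h1ker z hz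
    · intro b
      obtain ⟨z, hz⟩ := Submodule.mem_colon.1 h1range b trivial
      exact ⟨z, hz.trans (one_smul _ b)⟩

end Quotient

end Groth.Agent.FinQuot
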