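import Groth.Agent.Lib.FinQuot.Basic
import Mathlib.RingTheory.IntegralClosure.IsIntegralClosure.Basic

/-!
# Matrices of multiplication operators on a finite projective algebra and its base changes
-/

universe u

namespace Groth.Agent.FinQuot

open TensorProduct Matrix

variable {A B : Type u} [CommRing A] [CommRing B] [Algebra A B]

/-- `B` as a direct summand of `A ^ N`. -/
structure Retr (A B : Type u) [CommRing A] [CommRing B] [Algebra A B] where
  N : ℕ
  i : B →ₗ[A] (Fin N → A)
  r : (Fin N → A) →ₗ[A] B
  ri : ∀ b, r (i b) = b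

theorem nonempty_retr [Module.Finite A B] [Module.Projective A B] : Nonempty (Retr A B) := by
  obtain ⟨N, r, i, -, -, h⟩ := Module.Finite.exists_comp_eq_id_of_projective A B
  exact ⟨⟨N, i, r, LinearMap.congr_fun h⟩⟩

variable (R : Retr A B)

/-- The matrix of multiplication by `b`. -/
def Retr.mat (b : B) : Matrix (Fin R.N) (Fin R.N) A :=
  LinearMap.toMatrix' (R.i ∘ₗ LinearMap.mulLeft A b ∘ₗ R.r)

theorem Retr.mat_mul (b c : B) : R.mat (b * c) = R.mat b * R.mat c := by
  rw [Retr.mat, Retr.mat, Retr.mat, ← LinearMap.toMatrix'_comp]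
  congr 1
  refine LinearMap.ext fun v => ?_
  simp [R.ri]

theorem Retr.mat_add (b c : B) : R.mat (b + c) = R.mat b + R.mat c := by
  rw [Retr.mat, Retr.mat, Retr.mat, ← map_add]
  congr 1
  refine LinearMap.ext fun v => ?_
  simp [add_mul]

theorem Retr.mat_smul (a : A) (b : B) : R.mat (a • b) = a • R.mat b := by
  rw [Retr.mat, Retr.mat, ← map_smul]
  congr 1
  refine LinearMap.ext fun v => ?_
  simp

theorem Retr.mat_sub (b c : B) : R.mat (b - c) = R.mat b - R.mat c :=
  eq_sub_of_add_eq (by rw [← R.mat_add, sub_add_cancel])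

theorem Retr.mat_mulVec (b : B) (v : Fin R.N → A) : R.mat b *ᵥ v = R.i (b * R.r v) := by
  rw [Retr.mat, ← Matrix.toLin'_apply, Matrix.toLin'_toMatrix']
  rfl

theorem Retr.mat_mulVec_i (b c : B) : R.mat b *ᵥ R.i c = R.i (b * c) := by
  rw [R.mat_mulVec, R.ri]

variable {L : Type u} [CommRing L] (x : A →+* L)

/-- The base change of the inclusion. -/
def Retr.iL : Fib x B →ₗ[L] (Fin R.N → L) :=
  liftLin x
    { toFun := fun b j => x (R.i b j)
      map_zero' := by funext j; simp
      map_add' := fun b c => by funext j; simp }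
    fun a b => by funext j; simp

theorem Retr.iL_inB (b : B) : R.iL x (inB x b) = fun j => x (R.i b j) := liftLin_inB x _ _ b

/-- The base change of the retraction. -/
def Retr.rL : (Fin R.N → L) →ₗ[L] Fib x B :=
  Fintype.linearCombination L fun j => inB x (R.r (Pi.single j 1))

theorem Retr.rL_map (v : Fin R.N → A) : R.rL x (fun j => x (v j)) = inB x (R.r v) := by
  conv_rhs => rw [pi_eq_sum_univ' v]
  simp only [map_sum, map_smul, inB_smul, Retr.rL, Fintype.linearCombination_apply]

theorem Retr.rL_iL (z : Fib x B) : R.rL x (R.iL x z) = z :=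
  LinearMap.congr_fun (fib_linearMap_ext x (f := R.rL x ∘ₗ R.iL x) (g := LinearMap.id) fun b => by
    simp [R.iL_inB, R.rL_map, R.ri]) z

theorem Retr.toMatrix'_mulLeft (b : B) :
    LinearMap.toMatrix' (R.iL x ∘ₗ LinearMap.mulLeft L (inB x b) ∘ₗ R.rL x) = (R.mat b).map x := by
  ext j k
  rw [LinearMap.toMatrix'_apply, Matrix.map_apply, Retr.mat, LinearMap.toMatrix'_apply]
  have h1 : (Pi.single k (1 : L) : Fin R.N → L) =
      fun m : Fin R.N => x ((Pi.single k (1 : A) : Fin R.N → A) m) := by
    funext m
    simp only [Pi.single_apply]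
    split_ifs <;> simp
  simp only [LinearMap.comp_apply, LinearMap.mulLeft_apply]
  rw [h1, R.rL_map, ← map_mul, R.iL_inB]

/-- Base changes along related points give conjugate operators. -/
theorem Retr.exists_conj {t : A →+* B} (h : FinEqv t) {x y : A →+* L} (φ : B →+* L)
    (hs : φ.comp (algebraMap A B) = x) (ht : φ.comp t = y) (a : A) :
    ∃ P Q : Matrix (Fin R.N) (Fin R.N) L,
      (R.mat (t a)).map x = P * Q ∧ (R.mat (t a)).map y = Q * P := by
  obtain ⟨e, he⟩ := exists_iso_of_rel h φ hs ht
  refine ⟨LinearMap.toMatrix' (R.iL x ∘ₗ e.symm.toLinearMap ∘ₗ R.rL y),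
    LinearMap.toMatrix' (R.iL y ∘ₗ e.toLinearMap ∘ₗ LinearMap.mulLeft L (inB x (t a)) ∘ₗ R.rL x),
    ?_, ?_⟩
  · rw [← R.toMatrix'_mulLeft, ← LinearMap.toMatrix'_comp]
    congr 1
    refine LinearMap.ext fun v => ?_
    simp [R.rL_iL]
  · rw [← R.toMatrix'_mulLeft, ← LinearMap.toMatrix'_comp]
    congr 1
    refine LinearMap.ext fun v => ?_
    simp [R.rL_iL, he]

/-- The norm of `t a`. -/
def Retr.norm (t : A →+* B) (a : A) : A := (1 + R.mat (t a - 1)).det

theorem Retr.norm_invariant {t : A →+* B} (h : FinEqv t) (a : A) :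
    algebraMap A B (R.norm t a) = t (R.norm t a) := by
  obtain ⟨P, Q, hP, hQ⟩ := R.exists_conj h (RingHom.id B) (RingHom.id_comp (algebraMap A B))
    (RingHom.id_comp t) (a - 1)
  have hx : ∀ f : A →+* B, f (R.norm t a) = (1 + (R.mat (t (a - 1))).map f).det := fun f => by
    rw [Retr.norm, RingHom.map_det, map_add, map_one, map_sub, map_one]
    rfl
  rw [hx, hx, hP, hQ, det_one_add_mul_comm]

theorem Retr.charpoly_invariant {t : A →+* B} (h : FinEqv t) (a : A) :
    ((R.mat (t a)).charpoly).map (algebraMap A B) = ((R.mat (t a)).charpoly).map t := by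
  obtain ⟨P, Q, hP, hQ⟩ := R.exists_conj h (RingHom.id B) (RingHom.id_comp (algebraMap A B))
    (RingHom.id_comp t) a
  rw [← Matrix.charpoly_map, ← Matrix.charpoly_map, hP, hQ, charpoly_mul_comm]

theorem Retr.aeval_charpoly (b : B) : Polynomial.aeval b (R.mat b).charpoly = 0 := by
  have key : ∀ (p : Polynomial A) (c : B), (Polynomial.aeval (R.mat b) p) *ᵥ R.i c =
      R.i (Polynomial.aeval b p * c) := by
    intro p
    induction p using Polynomial.induction_on' with
    | add p q hp hq => intro c; rw [map_add, map_add, add_mulVec, hp, hq, add_mul, map_add]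
    | monomial n a =>
      induction n with
      | zero =>
        intro c
        rw [Polynomial.aeval_monomial, Polynomial.aeval_monomial, pow_zero, pow_zero, mul_one,
          mul_one, ← Algebra.smul_def, map_smul, Algebra.algebraMap_eq_smul_one, smul_mulVec,
          one_mulVec]
      | succ n ih =>
        intro c
        rw [Polynomial.aeval_monomial, Polynomial.aeval_monomial, pow_succ, pow_succ,
          ← mul_assoc, ← mul_assoc, ← mulVec_mulVec, R.mat_mulVec_i, mul_assoc _ b c]
        have := ih (b * c)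
        rw [Polynomial.aeval_monomial, Polynomial.aeval_monomial] at this
        exact this
  have h := key (R.mat b).charpoly 1
  rw [Matrix.aeval_self_charpoly, zero_mulVec, mul_one] at h
  rw [← R.ri (Polynomial.aeval b (R.mat b).charpoly), ← h, map_zero]

/-- `t A` is integral over the invariants. -/
theorem isIntegral_of_eqLocus {t : A →+* B} (h : FinEqv t) [Module.Finite A B]
    [Module.Projective A B] (a : A) :
    IsIntegral (RingHom.eqLocus (algebraMap A B) t) a := by
  obtain ⟨R⟩ := nonempty_retr (A := A) (B := B)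
  obtain ⟨e, he₁, he₂⟩ := h.refl
  have hmem : ∀ n, (R.mat (t a)).charpoly.coeff n ∈ RingHom.eqLocus (algebraMap A B) t := fun n => by
    have := congrArg (fun p => Polynomial.coeff p n) (R.charpoly_invariant h a)
    simpa only [Polynomial.coeff_map, RingHom.mem_eqLocus] using this
  have hsub : ((R.mat (t a)).charpoly.coeffs : Set A) ⊆ RingHom.eqLocus (algebraMap A B) t := by
    intro c hc
    obtain ⟨n, -, rfl⟩ := Polynomial.mem_coeffs_iff.1 hc
    exact hmem n
  refine ⟨(R.mat (t a)).charpoly.toSubring _ hsub,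
    (Polynomial.monic_toSubring _ _ hsub).2 (Matrix.charpoly_monic _), ?_⟩
  · rw [show algebraMap (RingHom.eqLocus (algebraMap A B) t) A =
      (RingHom.eqLocus (algebraMap A B) t).subtype from rfl, ← Polynomial.eval_map]
    refine (congrArg (Polynomial.eval a) (Polynomial.map_toSubring _ _ hsub)).trans ?_
    have h1 := congrArg e (R.aeval_charpoly (t a))
    rw [map_zero, Polynomial.aeval_def, Polynomial.hom_eval₂, he₁,
      show e (t a) = a from RingHom.congr_fun he₂ a, Polynomial.eval₂_id] at h1
    exact h1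

end Groth.Agent.FinQuot
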